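import Mathlib
import Cfsg.Agent.EqLemmas

/-!
# One conjugacy class of derangements

* `exists_derangement` : Jordan's lemma
* `sharp_one_class` : a sharply 2-transitive group has one class of derangements
* `sharp_of_abelian` : one class and an abelian minimal normal subgroup give sharp 2-transitivity
* `false_of_nonabelian` : one class excludes a non-simple non-abelian unique minimal normal subgroup
-/

set_option autoImplicit false
set_option linter.unusedSectionVars false

namespace Cfsg.Agent.DerangeClass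

open MulAction Subgroup
open scoped Pointwise

variable {G Ω : Type*} [Group G] [Finite G] [Finite Ω] [MulAction G Ω]

theorem sum_fix (G : Type*) {Ω : Type*} [Group G] [Fintype G] [Finite Ω] [MulAction G Ω]
    [IsPretransitive G Ω] [Nonempty Ω] : ∑ g : G, Nat.card (fixedBy Ω g) = Nat.card G := by
  classical
  haveI := Fintype.ofFinite Ω
  haveI := Fintype.ofFinite (orbitRel.Quotient G Ω)
  have h := MulAction.sum_card_fixedBy_eq_card_orbits_mul_card_group G Ω
  haveI : Subsingleton (orbitRel.Quotient G Ω) := pretransitive_iff_subsingleton_quotient G Ω |>.1 inferInstance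
  have h1 : Fintype.card (orbitRel.Quotient G Ω) = 1 :=
    Fintype.card_eq_one_iff.2 ⟨Quotient.mk'' (Classical.arbitrary Ω), fun y => Subsingleton.elim _ _⟩
  rw [h1, one_mul] at h
  simp only [Nat.card_eq_fintype_card]
  exact h

theorem exists_derangement [IsPretransitive G Ω] [Nontrivial Ω] : ∃ g : G, ∀ a : Ω, g • a ≠ a := by
  classical
  haveI := Fintype.ofFinite G
  haveI := Fintype.ofFinite Ω
  by_contra! h
  have hs := sum_fix G (Ω := Ω)
  have h1 : ∀ g : G, 1 ≤ Nat.card (fixedBy Ω g) := fun g => by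
    obtain ⟨a, ha⟩ := h g
    haveI : Nonempty (fixedBy Ω g) := ⟨⟨a, ha⟩⟩
    exact Nat.card_pos
  have h2 : ∑ _g : G, (1 : ℕ) < ∑ g : G, Nat.card (fixedBy Ω g) := by
    refine Finset.sum_lt_sum (fun g _ => h1 g) ⟨1, Finset.mem_univ _, ?_⟩
    rw [show (fixedBy Ω (1 : G)) = Set.univ by ext; simp [fixedBy], Nat.card_univ]
    exact Finite.one_lt_card
  rw [hs, Finset.sum_const, smul_eq_mul, mul_one, Finset.card_univ, Nat.card_eq_fintype_card] at h2
  exact lt_irrefl _ h2

theorem exists_avoiding (R : Subgroup G) (hR : R ≠ ⊤) : ∃ t : G, ∀ x : G, x⁻¹ * t * x ∉ R := by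
  haveI : Nontrivial (G ⧸ R) := by
    obtain ⟨x, hx⟩ : ∃ x, x ∉ R := by
      by_contra! h; exact hR ((eq_top_iff' R).2 h)
    exact ⟨⟨(1 : G), (x : G), fun e => hx (by simpa using QuotientGroup.eq.1 e)⟩⟩
  obtain ⟨t, ht⟩ := exists_derangement (G := G) (Ω := G ⧸ R)
  refine ⟨t, fun x hx => ht (x : G) ?_⟩
  show ((t * x : G) : G ⧸ R) = (x : G)
  rw [QuotientGroup.eq]
  have := R.inv_mem hx
  simpa [mul_assoc] using this

theorem sharp_one_class [Nontrivial Ω] (h2 : IsMultiplyPretransitive G Ω 2)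
    (hsharp : ∀ g : G, g ≠ 1 → ∀ a b : Ω, a ≠ b → g • a = a → g • b ≠ b) :
    ∃ d : G, (∀ a : Ω, d • a ≠ a) ∧ ∀ d' : G, (∀ a : Ω, d' • a ≠ a) → IsConj d d' := by
  classical
  haveI := Fintype.ofFinite G
  haveI := Fintype.ofFinite Ω
  haveI : IsPretransitive G Ω := isPretransitive_of_is_two_pretransitive
  obtain ⟨d, hd⟩ := exists_derangement (G := G) (Ω := Ω)
  refine ⟨d, hd, ?_⟩
  obtain ⟨a, b, hab⟩ := exists_pair_ne Ω
  -- the order of `G`
  have hcard : Nat.card G = Nat.card Ω * (Nat.card Ω - 1) := by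
    let e : G → {p : Ω × Ω // p.1 ≠ p.2} := fun g => ⟨(g • a, g • b), fun h => hab (smul_left_cancel g h)⟩
    have hinj : Function.Injective e := by
      intro g g' h
      simp only [e, Subtype.mk.injEq, Prod.mk.injEq] at h
      by_contra hne
      refine hsharp (g'⁻¹ * g) (fun h1 => hne (inv_mul_eq_one.1 h1).symm) a b hab ?_ ?_
      · rw [mul_smul, h.1, inv_smul_smul]
      · rw [mul_smul, h.2, inv_smul_smul]
    have hsurj : Function.Surjective e := by
      rintro ⟨⟨c, c'⟩, hcc⟩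
      obtain ⟨g, h1, h2⟩ := (is_two_pretransitive_iff (G := G) (α := Ω)).1 h2 hab hcc
      exact ⟨g, Subtype.ext (Prod.ext h1 h2)⟩
    rw [Nat.card_congr (Equiv.ofBijective e ⟨hinj, hsurj⟩), Nat.card_eq_fintype_card, Nat.card_eq_fintype_card,
      Fintype.card_subtype, Finset.filter_not, Finset.card_sdiff]
    have : (Finset.univ.filter fun p : Ω × Ω => p.1 = p.2).card = Fintype.card Ω := by
      rw [← Finset.card_univ]
      refine Finset.card_bij (fun p _ => p.1) (fun p _ => Finset.mem_univ _) (fun p hp q hq h => ?_)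
        fun x _ => ⟨(x, x), by simp, rfl⟩
      simp only [Finset.mem_filter] at hp hq
      exact Prod.ext h (hp.2 ▸ hq.2 ▸ h)
    rw [Finset.inter_univ, this, Finset.card_univ, Fintype.card_prod, Nat.mul_sub, mul_one]
  -- derangements
  set D : Finset G := Finset.univ.filter fun g => ∀ a : Ω, g • a ≠ a with hD
  have hDcard : D.card + 1 = Fintype.card Ω := by
    have hle : ∀ g : G, g ≠ 1 → Nat.card (fixedBy Ω g) ≤ 1 := fun g hg => by
      haveI : Subsingleton (fixedBy Ω g) := ⟨fun x y => Subtype.ext (by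
        by_contra hne; exact hsharp g hg _ _ hne x.2 y.2)⟩
      rw [Nat.card_eq_fintype_card]
      exact Fintype.card_le_one_iff_subsingleton.2 inferInstance
    have hs := sum_fix G (Ω := Ω)
    rw [← Finset.add_sum_erase _ _ (Finset.mem_univ (1 : G)),
      show (fixedBy Ω (1 : G)) = Set.univ by ext; simp [fixedBy], Nat.card_univ] at hs
    have h3 : ∀ g ∈ Finset.univ.erase (1 : G), Nat.card (fixedBy Ω g) = if g ∈ D then 0 else 1 := by
      intro g hg
      have hg1 := Finset.ne_of_mem_erase hg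
      by_cases hgD : g ∈ D
      · rw [if_pos hgD, Nat.card_eq_zero]
        exact .inl ⟨fun x => (Finset.mem_filter.1 hgD).2 x.1 x.2⟩
      · rw [if_neg hgD]
        refine le_antisymm (hle g hg1) ?_
        simp only [hD, Finset.mem_filter, Finset.mem_univ, true_and, not_forall, not_not] at hgD
        obtain ⟨x, hx⟩ := hgD
        haveI : Nonempty (fixedBy Ω g) := ⟨⟨x, hx⟩⟩
        exact Nat.card_pos
    rw [Finset.sum_congr rfl h3, Finset.sum_ite, Finset.sum_const_zero, zero_add, Finset.sum_const,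
      smul_eq_mul, mul_one, Finset.filter_not] at hs
    have hD1 : D ⊆ Finset.univ.erase (1 : G) := fun g hg => Finset.mem_erase.2 ⟨fun h => by
      subst h; exact (Finset.mem_filter.1 hg).2 a (one_smul _ _), Finset.mem_univ _⟩
    rw [Finset.filter_mem_eq_inter, Finset.inter_eq_right.2 hD1, Finset.card_sdiff_of_subset hD1,
      Finset.card_erase_of_mem (Finset.mem_univ _), Finset.card_univ, Nat.card_eq_fintype_card,
      Nat.card_eq_fintype_card] at hs
    have := Finset.card_le_card hD1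
    rw [Finset.card_erase_of_mem (Finset.mem_univ _), Finset.card_univ] at this
    have hp := Fintype.card_pos (α := G)
    omega
  -- the centralizer of `d`
  have hC : Nat.card (Subgroup.centralizer ({d} : Set G)) ≤ Nat.card Ω := by
    refine Nat.card_le_card_of_injective (fun c => (c : G) • a) fun c c' h => ?_
    replace h : (c : G) • a = (c' : G) • a := h
    by_contra hne
    have hne' : ((c' : G)⁻¹ * c : G) ≠ 1 := fun h1 => hne (Subtype.ext (inv_mul_eq_one.1 h1).symm)
    refine hsharp _ hne' a (d • a) (fun e => hd a e.symm) ?_ ?_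
    · rw [mul_smul, h, inv_smul_smul]
    · have hc : ((c' : G)⁻¹ * c : G) * d = d * ((c' : G)⁻¹ * c) :=
        (Subgroup.mem_centralizer_iff.1 (mul_mem (inv_mem c'.2) c.2) d rfl).symm
      rw [← mul_smul, hc, mul_smul, mul_smul _ _ a, h, inv_smul_smul]
  set K : Finset G := Finset.univ.filter fun g => IsConj d g with hK
  have hKD : K ⊆ D := by
    intro g hg
    obtain ⟨c, rfl⟩ := isConj_iff.1 (Finset.mem_filter.1 hg).2
    refine Finset.mem_filter.2 ⟨Finset.mem_univ _, fun x hx => hd (c⁻¹ • x) ?_⟩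
    rw [mul_smul, mul_smul] at hx
    conv_rhs => rw [← hx, inv_smul_smul]
  have hKcard : K.card * Nat.card (Subgroup.centralizer ({d} : Set G)) = Nat.card G := by
    have h := MulAction.card_orbit_mul_card_stabilizer_eq_card_group (ConjAct G) d
    rw [ConjAct.card, ← Nat.card_eq_fintype_card (α := G), ← Nat.card_eq_fintype_card,
      ← Nat.card_eq_fintype_card] at h
    rw [← h]
    congr 1
    · rw [Nat.card_eq_fintype_card, ← Set.toFinset_card]
      congr 1
      ext g
      simp only [hK, Set.mem_toFinset, ConjAct.mem_orbit_conjAct, Finset.mem_filter, Finset.mem_univ, true_and]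
      exact isConj_comm
    · refine Nat.card_congr (Equiv.subtypeEquiv ConjAct.toConjAct.toEquiv fun g => ?_)
      rw [MulAction.mem_stabilizer_iff, Subgroup.mem_centralizer_singleton_iff]
      show g * d = d * g ↔ g * d * g⁻¹ = d
      rw [mul_inv_eq_iff_eq_mul]
  have hn : 1 < Nat.card Ω := Finite.one_lt_card
  have hKD' : K = D := by
    refine Finset.eq_of_subset_of_card_le hKD ?_
    rw [hcard] at hKcard
    simp only [Nat.card_eq_fintype_card] at hKcard hC hn
    have h1 : Fintype.card Ω * (Fintype.card Ω - 1) ≤ Fintype.card Ω * K.card := by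
      rw [← hKcard, mul_comm (Fintype.card Ω)]
      exact Nat.mul_le_mul_left _ hC
    have := Nat.le_of_mul_le_mul_left h1 (by omega)
    omega
  intro d' hd'
  have : d' ∈ K := hKD' ▸ Finset.mem_filter.2 ⟨Finset.mem_univ _, hd'⟩
  exact (Finset.mem_filter.1 this).2

theorem mem_of_one_class (N : Subgroup G) [N.Normal] [IsPretransitive N Ω] [Nontrivial Ω]
    (h1 : ∀ d d' : G, (∀ a : Ω, d • a ≠ a) → (∀ a : Ω, d' • a ≠ a) → IsConj d d') {d : G}
    (hd : ∀ a : Ω, d • a ≠ a) : d ∈ N := by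
  obtain ⟨n, hn⟩ := exists_derangement (G := N) (Ω := Ω)
  obtain ⟨c, hc⟩ := isConj_iff.1 (h1 n.1 d hn hd)
  rw [← hc]
  exact (inferInstance : N.Normal).conj_mem _ n.2 c

theorem sharp_of_abelian [FaithfulSMul G Ω] (N : Subgroup G) [N.Normal] [IsPretransitive N Ω]
    [Nontrivial Ω] (hab : ∀ x ∈ N, ∀ y ∈ N, x * y = y * x)
    (h1 : ∀ d d' : G, (∀ a : Ω, d • a ≠ a) → (∀ a : Ω, d' • a ≠ a) → IsConj d d') :
    IsMultiplyPretransitive G Ω 2 ∧ ∀ g : G, g ≠ 1 → ∀ a b : Ω, a ≠ b → g • a = a → g • b ≠ b := by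
  classical
  have hreg : ∀ n ∈ N, ∀ a : Ω, n • a = a → n = 1 := by
    intro n hn a ha
    refine FaithfulSMul.eq_of_smul_eq_smul (α := Ω) fun b => ?_
    obtain ⟨m, rfl⟩ := MulAction.exists_smul_eq N a b
    show n • ((m : G) • a) = (1 : G) • ((m : G) • a)
    rw [← mul_smul, hab n hn _ m.2, mul_smul, ha, one_smul]
  have hmem : ∀ d : G, (∀ a : Ω, d • a ≠ a) → d ∈ N := fun d hd => mem_of_one_class N h1 hd
  have hder : ∀ n ∈ N, n ≠ 1 → ∀ a : Ω, n • a ≠ a := fun n hn h a ha => h (hreg n hn a ha)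
  haveI : IsPretransitive G Ω := ⟨fun a b => by
    obtain ⟨m, hm⟩ := MulAction.exists_smul_eq N a b; exact ⟨(m : G), hm⟩⟩
  refine ⟨(is_two_pretransitive_iff (G := G) (α := Ω)).2 ?_, ?_⟩
  · intro a b c d hab' hcd
    obtain ⟨m, hm⟩ := MulAction.exists_smul_eq N a b
    obtain ⟨m', hm'⟩ := MulAction.exists_smul_eq N c d
    have hm1 : (m : G) ≠ 1 := fun h => hab' (by
      have e : (m : G) • a = b := hm
      rwa [h, one_smul] at e)
    have hm1' : (m' : G) ≠ 1 := fun h => hcd (by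
      have e : (m' : G) • c = d := hm'
      rwa [h, one_smul] at e)
    obtain ⟨g, hg⟩ := isConj_iff.1 (h1 _ _ (hder _ m.2 hm1) (hder _ m'.2 hm1'))
    obtain ⟨k, hk⟩ := MulAction.exists_smul_eq N (g • a) c
    refine ⟨k * g, by rw [mul_smul]; exact hk, ?_⟩
    have e : (m : G) • a = b := hm
    have e' : (m' : G) • c = d := hm'
    have ek : (k : G) • (g • a) = c := hk
    rw [← e, ← e', ← ek, ← hg, ← mul_smul, ← mul_smul, ← mul_smul]
    congr 1
    rw [hab _ ((inferInstance : N.Normal).conj_mem _ m.2 g) _ k.2]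
    group
  · intro g hg a b hne ha hb
    haveI := Fintype.ofFinite Ω
    haveI := Fintype.ofFinite N
    -- every point is fixed by exactly one element of the coset
    let C : Finset G := Finset.univ.image fun n : N => (n : G) * g
    have hgN : g ∉ N := fun h => hg (hreg g h a ha)
    have hfix : ∀ x : Ω, ∃! n : N, ((n : G) * g) • x = x := fun x => by
      obtain ⟨n, hn⟩ := MulAction.exists_smul_eq N (g • x) x
      refine ⟨n, show ((n : G) * g) • x = x by rw [mul_smul]; exact hn, fun n' hn' => ?_⟩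
      replace hn' : ((n' : G) * g) • x = x := hn'
      rw [mul_smul] at hn'
      have hn2 : (n : G) • (g • x) = x := hn
      have : (n : G)⁻¹ * n' = 1 :=
        hreg _ (mul_mem (inv_mem n.2) n'.2) (g • x) (by rw [mul_smul, hn', inv_smul_eq_iff]; exact hn2.symm)
      exact Subtype.ext (inv_mul_eq_one.1 this).symm
    choose pick hpick huniq using hfix
    have hsurj : Function.Surjective pick := fun n => by
      by_contra! h
      refine hgN ((N.mul_mem_cancel_left n.2).1 (hmem _ fun x hx => h x ?_))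
      exact (huniq x n hx).symm
    have hN : Fintype.card N = Fintype.card Ω :=
      Fintype.card_congr (Equiv.ofBijective (fun n : N => (n : G) • a) ⟨fun n n' h => by
        have : (n' : G)⁻¹ * n = 1 := hreg _ (mul_mem (inv_mem n'.2) n.2) a
          (by rw [mul_smul]; exact (congrArg ((n' : G)⁻¹ • ·) h).trans (inv_smul_smul _ _))
        exact Subtype.ext (inv_mul_eq_one.1 this).symm, fun x => MulAction.exists_smul_eq N a x⟩)
    have hinj := ((Fintype.bijective_iff_surjective_and_card pick).2 ⟨hsurj, hN.symm⟩).1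
    refine hne (hinj ?_)
    rw [← huniq a 1 (by simpa using ha), ← huniq b 1 (by simpa using hb)]

theorem isMulCommutative_of_same_order {T : Type*} [Group T] [Finite T] [IsSimpleGroup T]
    (h : ∀ x y : T, x ≠ 1 → y ≠ 1 → orderOf x = orderOf y) : IsMulCommutative T := by
  set p := (Nat.card T).minFac
  have h1 : 1 < Nat.card T := Finite.one_lt_card
  haveI : Fact p.Prime := ⟨Nat.minFac_prime (by omega)⟩
  obtain ⟨z, hz⟩ := exists_prime_orderOf_dvd_card' p (Nat.minFac_dvd _)
  have hz1 : z ≠ 1 := fun e => by rw [e, orderOf_one] at hz; exact Nat.Prime.ne_one (Fact.out) hz.symm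
  have hp : IsPGroup p T := fun x => by
    by_cases hx : x = 1
    · exact ⟨0, by simp [hx]⟩
    · exact ⟨1, by rw [pow_one, ← hz, h z x hz1 hx, pow_orderOf_eq_one]⟩
  haveI : Nontrivial (Subgroup.center T) := hp.center_nontrivial
  refine ⟨⟨fun x y => ?_⟩⟩
  rcases (Subgroup.normal_of_characteristic (Subgroup.center T)).eq_bot_or_eq_top with e | e
  · exact absurd e ((Subgroup.nontrivial_iff_ne_bot _).1 inferInstance)
  · exact (Subgroup.mem_center_iff.1 (e ▸ Subgroup.mem_top x) y).symm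

theorem commute_of_normal_in {N A B : Subgroup G} (hA : A ≤ N) (hB : B ≤ N)
    (hAn : ∀ n ∈ N, ∀ x ∈ A, n * x * n⁻¹ ∈ A) (hBn : ∀ n ∈ N, ∀ x ∈ B, n * x * n⁻¹ ∈ B)
    (hd : A ⊓ B = ⊥) {a b : G} (ha : a ∈ A) (hb : b ∈ B) : a * b = b * a := by
  have : a * b * a⁻¹ * b⁻¹ ∈ A ⊓ B := ⟨by
    rw [mul_assoc, mul_assoc, ← mul_assoc b]
    exact A.mul_mem ha (hAn b (hB hb) _ (A.inv_mem ha)), B.mul_mem (hBn _ (hA ha) _ hb) (B.inv_mem hb)⟩
  rw [hd, Subgroup.mem_bot] at this
  rw [mul_inv_eq_one, mul_inv_eq_iff_eq_mul] at this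
  exact this

theorem false_of_nonabelian [FaithfulSMul G Ω] (N : Subgroup G) [N.Normal] [IsPretransitive N Ω]
    [Nontrivial Ω] (hNmin : ∀ M : Subgroup G, M.Normal → M ≤ N → M = ⊥ ∨ M = N) (hN0 : N ≠ ⊥)
    (hab : ¬ ∀ x ∈ N, ∀ y ∈ N, x * y = y * x)
    (hnas : ¬ ∃ T : Subgroup G, T.Normal ∧ IsSimpleGroup T ∧ ¬ IsMulCommutative T ∧
      Subgroup.centralizer (T : Set G) = ⊥)
    (hC : Subgroup.centralizer (N : Set G) = ⊥)
    (h1 : ∀ d d' : G, (∀ a : Ω, d • a ≠ a) → (∀ a : Ω, d' • a ≠ a) → IsConj d d') : False := by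
  classical
  obtain ⟨T, ⟨hT0, hTN, hTn⟩, hTmin⟩ := (Set.toFinite
    {T : Subgroup G | T ≠ ⊥ ∧ T ≤ N ∧ ∀ n ∈ N, ∀ x ∈ T, n * x * n⁻¹ ∈ T}).exists_minimal
    ⟨N, hN0, le_rfl, fun n hn x hx => mul_mem (mul_mem hn hx) (inv_mem hn)⟩
  have hmin : ∀ A : Subgroup G, A ≤ T → (∀ n ∈ N, ∀ x ∈ A, n * x * n⁻¹ ∈ A) → A = ⊥ ∨ A = T :=
    fun A hA hAn => or_iff_not_imp_left.2 fun h => le_antisymm hA (hTmin ⟨h, hA.trans hTN, hAn⟩ hA)
  let cj : G → Subgroup G := fun g => T.map (MulAut.conj g).toMonoidHom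
  have hcjN : ∀ g, cj g ≤ N := by
    rintro g _ ⟨x, hx, rfl⟩; exact (inferInstance : N.Normal).conj_mem x (hTN hx) g
  have hcjn : ∀ g, ∀ n ∈ N, ∀ x ∈ cj g, n * x * n⁻¹ ∈ cj g := by
    rintro g n hn _ ⟨x, hx, rfl⟩
    refine ⟨(g⁻¹ * n * g) * x * (g⁻¹ * n * g)⁻¹, hTn _ ?_ x hx, ?_⟩
    · simpa using (inferInstance : N.Normal).conj_mem n hn g⁻¹
    · simp only [MulEquiv.coe_toMonoidHom, MulAut.conj_apply]; group
  have hmeet : ∀ g, cj g = T ∨ T ⊓ cj g = ⊥ := by
    intro g
    rcases hmin (T ⊓ cj g) inf_le_left fun n hn x hx => ⟨hTn n hn x hx.1, hcjn g n hn x hx.2⟩ with h | h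
    · exact .inr h
    · refine .inl (le_antisymm ?_ (inf_eq_left.1 h))
      have hcard : Nat.card (cj g) = Nat.card T :=
        (Nat.card_congr (T.equivMapOfInjective _ (MulAut.conj g).injective).toEquiv).symm
      exact (Subgroup.eq_of_le_of_card_ge (inf_eq_left.1 h) hcard.le).ge
  have hT1c : T ≤ cj 1 := fun x hx => ⟨x, hx, by simp⟩
  -- `C` centralizes `T`
  set C := N ⊓ Subgroup.centralizer (T : Set G) with hCdef
  have hdec : N ≤ T ⊔ C := by
    have hM : (⨆ g, cj g).Normal := ⟨fun x hx y => by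
      have hle : (⨆ g, cj g).map (MulAut.conj y).toMonoidHom ≤ ⨆ g, cj g := by
        rw [Subgroup.map_iSup]
        refine iSup_le fun g => le_trans (le_of_eq ?_) (le_iSup _ (y * g))
        simp only [cj, Subgroup.map_map, map_mul]; rfl
      exact hle ⟨x, hx, rfl⟩⟩
    rcases hNmin _ hM (iSup_le hcjN) with h | h
    · exact absurd (le_bot_iff.1 (h ▸ le_iSup_of_le 1 hT1c)) hT0
    conv_lhs => rw [← h]
    refine iSup_le fun g => ?_
    rcases hmeet g with h | h
    · rw [h]; exact le_sup_left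
    · refine le_sup_of_le_right fun x hx => ⟨hcjN g hx, Subgroup.mem_centralizer_iff.2 fun t ht => ?_⟩
      exact commute_of_normal_in hTN (hcjN g) hTn (hcjn g) h ht hx
  have hCn : ∀ t ∈ T, ∀ c ∈ C, t * c = c * t := fun t ht c hc =>
    Subgroup.mem_centralizer_iff.1 hc.2 t ht
  have hprod : ∀ n ∈ N, ∃ t ∈ T, ∃ c ∈ C, n = t * c := by
    intro n hn
    have h2 := hdec hn
    rw [← SetLike.mem_coe, Subgroup.coe_mul_of_right_le_normalizer_left T C] at h2
    · obtain ⟨t, ht, c, hc, rfl⟩ := h2; exact ⟨t, ht, c, hc, rfl⟩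
    · intro c hc
      rw [Subgroup.mem_normalizer_iff]
      exact fun x => ⟨fun hx => by rwa [← hCn x hx c hc, mul_inv_cancel_right],
        fun hx => by
          have := hTn c⁻¹ (inv_mem hc.1) _ hx
          simpa [mul_assoc] using this⟩
  -- `T` is simple and non-abelian
  have hTab : ¬ IsMulCommutative T := by
    intro hc
    refine hab fun x hx y hy => ?_
    have key : ∀ g, cj g ≤ N ⊓ Subgroup.centralizer (N : Set G) := by
      intro g z hz
      refine ⟨hcjN g hz, ?_⟩
      obtain ⟨t, ht, rfl⟩ := hz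
      refine Subgroup.mem_centralizer_iff.2 fun n hn => ?_
      obtain ⟨t', ht', c, hcC, hn'⟩ := hprod (g⁻¹ * n * g) (by
        simpa using (inferInstance : N.Normal).conj_mem n hn g⁻¹)
      have e1 : t' * t = t * t' := congrArg Subtype.val (hc.is_comm.comm (⟨t', ht'⟩ : T) ⟨t, ht⟩)
      have e2 : (g⁻¹ * n * g) * t = t * (g⁻¹ * n * g) := by
        rw [hn', mul_assoc, ← hCn t ht c hcC, ← mul_assoc, e1, mul_assoc]
      simp only [MulEquiv.coe_toMonoidHom, MulAut.conj_apply]
      calc n * (g * t * g⁻¹) = g * ((g⁻¹ * n * g) * t) * g⁻¹ := by group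
        _ = g * (t * (g⁻¹ * n * g)) * g⁻¹ := by rw [e2]
        _ = g * t * g⁻¹ * n := by group
    have := key 1
    rw [hC, inf_bot_eq] at this
    exact absurd (le_bot_iff.1 (hT1c.trans this)) hT0
  haveI : Nontrivial T := (Subgroup.nontrivial_iff_ne_bot T).2 hT0
  haveI hsimple : IsSimpleGroup T := ⟨fun A hA => by
    rcases hmin (A.map T.subtype) (Subgroup.map_subtype_le A) (by
      rintro n hn _ ⟨x, hx, rfl⟩
      obtain ⟨t, ht, c, hc, rfl⟩ := hprod n hn
      refine ⟨⟨t, ht⟩ * x * ⟨t, ht⟩⁻¹, hA.conj_mem x hx _, ?_⟩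
      show t * (x : G) * t⁻¹ = t * c * (x : G) * (t * c)⁻¹
      rw [mul_assoc t c, ← hCn _ x.2 c hc]
      group) with h | h
    · exact .inl ((Subgroup.map_eq_bot_iff_of_injective _ T.subtype_injective).1 h)
    · refine .inr (eq_top_iff.2 fun x _ => ?_)
      have : (x : G) ∈ A.map T.subtype := by rw [h]; exact x.2
      obtain ⟨y, hy, e⟩ := this
      rwa [show x = y from Subtype.ext e.symm]⟩
  -- a second factor
  obtain ⟨g₁, hg₁⟩ : ∃ g, T ⊓ cj g = ⊥ := by
    by_contra! h
    have hTnormal : T.Normal := ⟨fun x hx g => by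
      have e := (hmeet g).resolve_right (h g)
      exact e ▸ ⟨x, hx, rfl⟩⟩
    rcases hNmin T hTnormal hTN with e | e
    · exact hT0 e
    · exact hnas ⟨T, hTnormal, hsimple, hTab, e.symm ▸ hC⟩
  obtain ⟨u, hu, hu1⟩ : ∃ u ∈ cj g₁, u ≠ 1 := by
    refine (Subgroup.bot_or_exists_ne_one (cj g₁)).resolve_left fun h => hT0 ?_
    exact (Subgroup.map_eq_bot_iff_of_injective T (MulAut.conj g₁).injective).1 h
  have huC : u ∈ C := ⟨hcjN _ hu, Subgroup.mem_centralizer_iff.2 fun t ht =>
    commute_of_normal_in hTN (hcjN g₁) hTn (hcjn g₁) hg₁ ht hu⟩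
  obtain ⟨a⟩ : Nonempty Ω := inferInstance
  -- the projection of a point stabilizer
  let R : Subgroup T :=
    { carrier := {x | ∃ c ∈ C, (c * x : G) • a = a}
      one_mem' := ⟨1, one_mem _, by simp⟩
      mul_mem' := by
        rintro x y ⟨c, hc, hx⟩ ⟨c', hc', hy⟩
        refine ⟨c * c', mul_mem hc hc', ?_⟩
        rw [Subgroup.coe_mul, show c * c' * ((x : G) * (y : G)) = (c * x) * (c' * y) by
          rw [mul_assoc, ← mul_assoc c', ← hCn _ x.2 c' hc', mul_assoc, ← mul_assoc], mul_smul, hy, hx]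
      inv_mem' := by
        rintro x ⟨c, hc, hx⟩
        refine ⟨c⁻¹, inv_mem hc, ?_⟩
        rw [Subgroup.coe_inv, ← _root_.mul_inv_rev, hCn _ x.2 c hc, inv_smul_eq_iff, hx] }
  have htransT : ∀ b : Ω, ∃ x ∈ T, ∃ c ∈ C, (x * c) • a = b := fun b => by
    obtain ⟨m, hm⟩ := MulAction.exists_smul_eq N a b
    obtain ⟨x, hx, c, hc, e⟩ := hprod m m.2
    exact ⟨x, hx, c, hc, by rw [← e]; exact hm⟩
  by_cases hR : R = ⊤
  · -- all of `T` consists of derangements
    have hT1 : ∀ x : T, (x : G) • a = a → x = 1 := by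
      intro x hx
      let A : Subgroup T := (MulAction.stabilizer G a).comap T.subtype
      haveI hA : A.Normal := ⟨fun y hy z => by
        obtain ⟨c, hc, hz⟩ : z ∈ R := hR ▸ Subgroup.mem_top z
        show ((z : G) * y * (z : G)⁻¹) • a = a
        have hy' : (y : G) • a = a := hy
        have e : (z : G) * y * (z : G)⁻¹ = (c * z) * y * (c * z)⁻¹ := by
          have h3 := hCn _ (z * y * z⁻¹).2 c hc
          simp only [Subgroup.coe_mul, Subgroup.coe_inv] at h3
          rw [show c * (z : G) * y * (c * z)⁻¹ = c * ((z : G) * y * (z : G)⁻¹) * c⁻¹ by group, ← h3,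
            mul_inv_cancel_right]
        rw [e, mul_smul, mul_smul]
        conv_lhs => rw [show (c * (z : G))⁻¹ • a = a from inv_smul_eq_iff.2 hz.symm, hy', hz]⟩
      rcases hA.eq_bot_or_eq_top with h | h
      · have : x ∈ A := hx
        rwa [h, Subgroup.mem_bot] at this
      · exfalso
        refine hT0 ((Subgroup.eq_bot_iff_forall _).2 fun t ht => ?_)
        refine FaithfulSMul.eq_of_smul_eq_smul (α := Ω) fun b => ?_
        obtain ⟨m, rfl⟩ := MulAction.exists_smul_eq N a b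
        have ht' : (⟨(m : G)⁻¹ * t * ((m : G)⁻¹)⁻¹, hTn _ (inv_mem m.2) t ht⟩ : T) ∈ A :=
          h ▸ Subgroup.mem_top _
        have ht2 : ((m : G)⁻¹ * t * ((m : G)⁻¹)⁻¹) • a = a := ht'
        rw [inv_inv, mul_smul, mul_smul, inv_smul_eq_iff] at ht2
        rw [one_smul]; exact ht2
    have hderT : ∀ x : T, x ≠ 1 → ∀ b : Ω, (x : G) • b ≠ b := by
      intro x hx b hb
      obtain ⟨y, hy, c, hc, rfl⟩ := htransT b
      have hm : y * c ∈ N := mul_mem (hTN hy) hc.1
      refine hx ?_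
      have h3 := hT1 ⟨(y * c)⁻¹ * x * ((y * c)⁻¹)⁻¹, hTn _ (inv_mem hm) x x.2⟩ (by
        show ((y * c)⁻¹ * (x : G) * ((y * c)⁻¹)⁻¹) • a = a
        rw [inv_inv, mul_smul, mul_smul, hb, inv_smul_smul])
      have h4 := congrArg Subtype.val h3
      simp only [Subgroup.coe_one, inv_inv] at h4
      refine Subtype.ext ?_
      rw [mul_assoc, inv_mul_eq_one] at h4
      exact mul_eq_right.1 h4.symm
    refine hTab (isMulCommutative_of_same_order fun x y hx hy => ?_)
    obtain ⟨g, hg⟩ := isConj_iff.1 (h1 _ _ (hderT x hx) (hderT y hy))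
    rw [← Subgroup.orderOf_coe, ← Subgroup.orderOf_coe y, ← hg]
    exact ((MulAut.conj g).orderOf_eq (x : G)).symm
  -- two kinds of derangements
  obtain ⟨t, ht⟩ := exists_avoiding R hR
  have hder : ∀ c ∈ C, ∀ b : Ω, ((t : G) * c) • b ≠ b := by
    intro c hc b hb
    obtain ⟨x, hx, c', hc', rfl⟩ := htransT b
    refine ht ⟨x, hx⟩ ⟨c'⁻¹ * c * c', mul_mem (mul_mem (inv_mem hc') hc) hc', ?_⟩
    have hy : x⁻¹ * (t : G) * x ∈ T := mul_mem (mul_mem (inv_mem hx) t.2) hx
    show (c'⁻¹ * c * c' * (x⁻¹ * (t : G) * x)) • a = a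
    rw [show c'⁻¹ * c * c' * (x⁻¹ * (t : G) * x) = (x * c')⁻¹ * ((t : G) * c) * (x * c') by
      have e1 := hCn x hx c hc
      have e2 := hCn _ hy c' hc'
      have e3 := hCn _ hy c hc
      rw [mul_assoc (c'⁻¹ * c), ← e2, ← mul_assoc, mul_assoc c'⁻¹, ← e3]
      calc c'⁻¹ * (x⁻¹ * (t : G) * x * c) * c' = c'⁻¹ * x⁻¹ * (t : G) * (x * c) * c' := by group
        _ = c'⁻¹ * x⁻¹ * (t : G) * (c * x) * c' := by rw [e1]
        _ = _ := by group, mul_smul, mul_smul, hb, inv_smul_smul]
  have ht1 : (t : G) ≠ 1 := fun h => by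
    have h2 := hder 1 (one_mem _) a
    rw [h, one_mul, one_smul] at h2
    exact h2 rfl
  obtain ⟨g, hg⟩ := isConj_iff.1 (h1 _ _ (hder 1 (one_mem _)) (hder u huC))
  rw [mul_one] at hg
  have hmem : (t : G) * u ∈ cj g := ⟨(t : G), t.2, hg⟩
  rcases hmeet g with h | h
  · rw [h] at hmem
    have h2 : u ∈ T := by simpa using mul_mem (inv_mem t.2) hmem
    have h3 : u ∈ (⊥ : Subgroup G) := hg₁ ▸ ⟨h2, hu⟩
    exact hu1 (Subgroup.mem_bot.1 h3)
  · have hc : ∀ s ∈ T, s * (t : G) = (t : G) * s := by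
      intro s hs
      have e1 := commute_of_normal_in hTN (hcjN g) hTn (hcjn g) h hs hmem
      rw [← mul_assoc, mul_assoc (t : G) u s, ← hCn s hs u huC, ← mul_assoc] at e1
      exact mul_right_cancel e1
    have hcen : t ∈ Subgroup.center T := Subgroup.mem_center_iff.2 fun s => Subtype.ext (hc s s.2)
    rcases (Subgroup.normal_of_characteristic (Subgroup.center T)).eq_bot_or_eq_top with e | e
    · rw [e, Subgroup.mem_bot] at hcen
      exact ht1 (congrArg Subtype.val hcen)
    · exact hTab ⟨⟨fun x y => (Subgroup.mem_center_iff.1 (e ▸ Subgroup.mem_top x) y).symm⟩⟩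

end Cfsg.Agent.DerangeClass
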