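import Cfsg.Agent.EqLemmas
import Cfsg.Agent.Lib.DerangeClass.Basic
import Cfsg.Agent.Lib.CharApp.Burnside

/-!
# Simple factors of a minimal normal subgroup; two classes of derangements

* `exists_factor` : a simple factor `T` of a non-abelian minimal normal subgroup `N` with trivial centralizer in a
  group which is not almost simple: `N = T C_N(T)` and a second conjugate of `T`
* `fixed_le_one_of_mem` : if all derangements lie in a regular normal abelian subgroup, other elements fix at most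
  one point
* `orders_le_two` : with two classes of derangements, derangements have at most two orders
* `false_of_two_classes` : two classes exclude such a minimal normal subgroup
-/

set_option autoImplicit false
set_option linter.unusedSectionVars false

namespace Cfsg.Agent.DerangeClass

open MulAction Subgroup
open scoped Pointwise

variable {G Ω : Type*} [Group G] [Finite G] [Finite Ω] [MulAction G Ω]

/-- A simple factor of a minimal normal subgroup. -/
theorem exists_factor (N : Subgroup G) [N.Normal]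
    (hNmin : ∀ M : Subgroup G, M.Normal → M ≤ N → M = ⊥ ∨ M = N) (hN0 : N ≠ ⊥)
    (hab : ¬ ∀ x ∈ N, ∀ y ∈ N, x * y = y * x)
    (hnas : ¬ ∃ T : Subgroup G, T.Normal ∧ IsSimpleGroup T ∧ ¬ IsMulCommutative T ∧
      Subgroup.centralizer (T : Set G) = ⊥)
    (hC : Subgroup.centralizer (N : Set G) = ⊥) :
    ∃ T : Subgroup G, T ≠ ⊥ ∧ T ≤ N ∧ (∀ n ∈ N, ∀ x ∈ T, n * x * n⁻¹ ∈ T) ∧ IsSimpleGroup T ∧
      ¬ IsMulCommutative T ∧ (∀ n ∈ N, ∃ t ∈ T, ∃ c ∈ N ⊓ Subgroup.centralizer (T : Set G), n = t * c) ∧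
      (∀ g : G, T.map (MulAut.conj g).toMonoidHom = T ∨
        T.map (MulAut.conj g).toMonoidHom ≤ N ⊓ Subgroup.centralizer (T : Set G)) ∧
      ∃ g : G, T.map (MulAut.conj g).toMonoidHom ≤ N ⊓ Subgroup.centralizer (T : Set G) := by
  classical
  obtain ⟨T, ⟨hT0, hTN, hTn⟩, hTmin⟩ := (Set.toFinite
    {T : Subgroup G | T ≠ ⊥ ∧ T ≤ N ∧ ∀ n ∈ N, ∀ x ∈ T, n * x * n⁻¹ ∈ T}).exists_minimal
    ⟨N, hN0, le_rfl, fun n hn x hx => mul_mem (mul_mem hn hx) (inv_mem hn)⟩
  have hmin : ∀ A : Subgroup G, A ≤ T → (∀ n ∈ N, ∀ x ∈ A, n * x * n⁻¹ ∈ A) → A = ⊥ ∨ A = T :=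
    fun A hA hAn => or_iff_not_imp_left.2 fun h => le_antisymm hA (hTmin ⟨h, hA.trans hTN, hAn⟩ hA)
  let cj : G → Subgroup G := fun g => T.map (MulAut.conj g).toMonoidHom
  have hcjN : ∀ g, cj g ≤ N := by
    rintro g _ ⟨x, hx, rfl⟩; exact (inferInstance : N.Normal).conj_mem x (hTN hx) g
  have hcjn : ∀ g, ∀ n ∈ N, ∀ x ∈ cj g, n * x * n⁻¹ ∈ cj g := by
    rintro g n hn _ ⟨x, hx, rfl⟩
    refine ⟨(g⁻¹ * n * g) * x * (g⁻¹ * n * g)⁻¹, hTn _ ?_ x hx, ?_⟩
    · simpa using (inferInstance : N.Normal).conj_mem n hn g⁻¹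
    · simp only [MulEquiv.coe_toMonoidHom, MulAut.conj_apply]; group
  have hmeet : ∀ g, cj g = T ∨ T ⊓ cj g = ⊥ := by
    intro g
    rcases hmin (T ⊓ cj g) inf_le_left fun n hn x hx => ⟨hTn n hn x hx.1, hcjn g n hn x hx.2⟩ with h | h
    · exact .inr h
    · refine .inl (le_antisymm ?_ (inf_eq_left.1 h))
      have hcard : Nat.card (cj g) = Nat.card T :=
        (Nat.card_congr (T.equivMapOfInjective _ (MulAut.conj g).injective).toEquiv).symm
      exact (Subgroup.eq_of_le_of_card_ge (inf_eq_left.1 h) hcard.le).ge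
  have hT1c : T ≤ cj 1 := fun x hx => ⟨x, hx, by simp⟩
  -- `C` centralizes `T`
  set C := N ⊓ Subgroup.centralizer (T : Set G) with hCdef
  have hdec : N ≤ T ⊔ C := by
    have hM : (⨆ g, cj g).Normal := ⟨fun x hx y => by
      have hle : (⨆ g, cj g).map (MulAut.conj y).toMonoidHom ≤ ⨆ g, cj g := by
        rw [Subgroup.map_iSup]
        refine iSup_le fun g => le_trans (le_of_eq ?_) (le_iSup _ (y * g))
        simp only [cj, Subgroup.map_map, map_mul]; rfl
      exact hle ⟨x, hx, rfl⟩⟩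
    rcases hNmin _ hM (iSup_le hcjN) with h | h
    · exact absurd (le_bot_iff.1 (h ▸ le_iSup_of_le 1 hT1c)) hT0
    conv_lhs => rw [← h]
    refine iSup_le fun g => ?_
    rcases hmeet g with h | h
    · rw [h]; exact le_sup_left
    · refine le_sup_of_le_right fun x hx => ⟨hcjN g hx, Subgroup.mem_centralizer_iff.2 fun t ht => ?_⟩
      exact commute_of_normal_in hTN (hcjN g) hTn (hcjn g) h ht hx
  have hCn : ∀ t ∈ T, ∀ c ∈ C, t * c = c * t := fun t ht c hc =>
    Subgroup.mem_centralizer_iff.1 hc.2 t ht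
  have hprod : ∀ n ∈ N, ∃ t ∈ T, ∃ c ∈ C, n = t * c := by
    intro n hn
    have h2 := hdec hn
    rw [← SetLike.mem_coe, Subgroup.coe_mul_of_right_le_normalizer_left T C] at h2
    · obtain ⟨t, ht, c, hc, rfl⟩ := h2; exact ⟨t, ht, c, hc, rfl⟩
    · intro c hc
      rw [Subgroup.mem_normalizer_iff]
      exact fun x => ⟨fun hx => by rwa [← hCn x hx c hc, mul_inv_cancel_right],
        fun hx => by
          have := hTn c⁻¹ (inv_mem hc.1) _ hx
          simpa [mul_assoc] using this⟩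
  -- `T` is simple and non-abelian
  have hTab : ¬ IsMulCommutative T := by
    intro hc
    refine hab fun x hx y hy => ?_
    have key : ∀ g, cj g ≤ N ⊓ Subgroup.centralizer (N : Set G) := by
      intro g z hz
      refine ⟨hcjN g hz, ?_⟩
      obtain ⟨t, ht, rfl⟩ := hz
      refine Subgroup.mem_centralizer_iff.2 fun n hn => ?_
      obtain ⟨t', ht', c, hcC, hn'⟩ := hprod (g⁻¹ * n * g) (by
        simpa using (inferInstance : N.Normal).conj_mem n hn g⁻¹)
      have e1 : t' * t = t * t' := congrArg Subtype.val (hc.is_comm.comm (⟨t', ht'⟩ : T) ⟨t, ht⟩)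
      have e2 : (g⁻¹ * n * g) * t = t * (g⁻¹ * n * g) := by
        rw [hn', mul_assoc, ← hCn t ht c hcC, ← mul_assoc, e1, mul_assoc]
      simp only [MulEquiv.coe_toMonoidHom, MulAut.conj_apply]
      calc n * (g * t * g⁻¹) = g * ((g⁻¹ * n * g) * t) * g⁻¹ := by group
        _ = g * (t * (g⁻¹ * n * g)) * g⁻¹ := by rw [e2]
        _ = g * t * g⁻¹ * n := by group
    have := key 1
    rw [hC, inf_bot_eq] at this
    exact absurd (le_bot_iff.1 (hT1c.trans this)) hT0
  haveI : Nontrivial T := (Subgroup.nontrivial_iff_ne_bot T).2 hT0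
  haveI hsimple : IsSimpleGroup T := ⟨fun A hA => by
    rcases hmin (A.map T.subtype) (Subgroup.map_subtype_le A) (by
      rintro n hn _ ⟨x, hx, rfl⟩
      obtain ⟨t, ht, c, hc, rfl⟩ := hprod n hn
      refine ⟨⟨t, ht⟩ * x * ⟨t, ht⟩⁻¹, hA.conj_mem x hx _, ?_⟩
      show t * (x : G) * t⁻¹ = t * c * (x : G) * (t * c)⁻¹
      rw [mul_assoc t c, ← hCn _ x.2 c hc]
      group) with h | h
    · exact .inl ((Subgroup.map_eq_bot_iff_of_injective _ T.subtype_injective).1 h)
    · refine .inr (eq_top_iff.2 fun x _ => ?_)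
      have : (x : G) ∈ A.map T.subtype := by rw [h]; exact x.2
      obtain ⟨y, hy, e⟩ := this
      rwa [show x = y from Subtype.ext e.symm]⟩
  -- a second factor
  obtain ⟨g₁, hg₁⟩ : ∃ g, T ⊓ cj g = ⊥ := by
    by_contra! h
    have hTnormal : T.Normal := ⟨fun x hx g => by
      have e := (hmeet g).resolve_right (h g)
      exact e ▸ ⟨x, hx, rfl⟩⟩
    rcases hNmin T hTnormal hTN with e | e
    · exact hT0 e
    · exact hnas ⟨T, hTnormal, hsimple, hTab, e.symm ▸ hC⟩
  have hle : ∀ g, T ⊓ cj g = ⊥ → cj g ≤ C := fun g h x hx => ⟨hcjN g hx,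
    Subgroup.mem_centralizer_iff.2 fun t ht => commute_of_normal_in hTN (hcjN g) hTn (hcjn g) h ht hx⟩
  exact ⟨T, hT0, hTN, hTn, hsimple, hTab, hprod, fun g => (hmeet g).imp id (hle g), g₁, hle g₁ hg₁⟩

/-- If all derangements lie in a regular normal subgroup, every other non-identity element fixes at most one point. -/
theorem fixed_le_one_of_mem (N : Subgroup G) [N.Normal] [IsPretransitive N Ω] [Nontrivial Ω]
    (hreg : ∀ n ∈ N, ∀ a : Ω, n • a = a → n = 1)
    (hmem : ∀ d : G, (∀ a : Ω, d • a ≠ a) → d ∈ N) {g : G} (hg : g ≠ 1) {a b : Ω} (hne : a ≠ b)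
    (ha : g • a = a) : g • b ≠ b := by
  classical
  intro hb
  haveI := Fintype.ofFinite Ω
  haveI := Fintype.ofFinite N
  have hgN : g ∉ N := fun h => hg (hreg g h a ha)
  have hfix : ∀ x : Ω, ∃! n : N, ((n : G) * g) • x = x := fun x => by
    obtain ⟨n, hn⟩ := MulAction.exists_smul_eq N (g • x) x
    refine ⟨n, show ((n : G) * g) • x = x by rw [mul_smul]; exact hn, fun n' hn' => ?_⟩
    replace hn' : ((n' : G) * g) • x = x := hn'
    rw [mul_smul] at hn'
    have hn2 : (n : G) • (g • x) = x := hn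
    have : (n : G)⁻¹ * n' = 1 :=
      hreg _ (mul_mem (inv_mem n.2) n'.2) (g • x) (by rw [mul_smul, hn', inv_smul_eq_iff]; exact hn2.symm)
    exact Subtype.ext (inv_mul_eq_one.1 this).symm
  choose pick hpick huniq using hfix
  have hsurj : Function.Surjective pick := fun n => by
    by_contra! h
    refine hgN ((N.mul_mem_cancel_left n.2).1 (hmem _ fun x hx => h x ?_))
    exact (huniq x n hx).symm
  have hN : Fintype.card N = Fintype.card Ω :=
    Fintype.card_congr (Equiv.ofBijective (fun n : N => (n : G) • a) ⟨fun n n' h => by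
      have : (n' : G)⁻¹ * n = 1 := hreg _ (mul_mem (inv_mem n'.2) n.2) a
        (by rw [mul_smul]; exact (congrArg ((n' : G)⁻¹ • ·) h).trans (inv_smul_smul _ _))
      exact Subtype.ext (inv_mul_eq_one.1 this).symm, fun x => MulAction.exists_smul_eq N a x⟩)
  have hinj := ((Fintype.bijective_iff_surjective_and_card pick).2 ⟨hsurj, hN.symm⟩).1
  refine hne (hinj ?_)
  rw [← huniq a 1 (by simpa using ha), ← huniq b 1 (by simpa using hb)]

/-- Conjugate elements have the same order. -/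
theorem orderOf_eq_of_isConj {x y : G} (h : IsConj x y) : orderOf x = orderOf y := by
  obtain ⟨c, rfl⟩ := isConj_iff.1 h
  exact ((MulAut.conj c).orderOf_eq x).symm

/-- A non-solvable group has three prime divisors. -/
theorem exists_three_primes {T : Type*} [Group T] [Finite T] (hT : ¬ Group.IsSolvable T) :
    ∃ p q r : ℕ, p.Prime ∧ q.Prime ∧ r.Prime ∧ p ≠ q ∧ p ≠ r ∧ q ≠ r ∧
      p ∣ Nat.card T ∧ q ∣ Nat.card T ∧ r ∣ Nat.card T := by
  by_cases h : 2 < (Nat.card T).primeFactors.card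
  · obtain ⟨p, q, r, hp, hq, hr, hpq, hpr, hqr⟩ := Finset.two_lt_card_iff.1 h
    exact ⟨p, q, r, Nat.prime_of_mem_primeFactors hp, Nat.prime_of_mem_primeFactors hq,
      Nat.prime_of_mem_primeFactors hr, hpq, hpr, hqr, Nat.dvd_of_mem_primeFactors hp,
      Nat.dvd_of_mem_primeFactors hq, Nat.dvd_of_mem_primeFactors hr⟩
  refine absurd ?_ hT
  have hn := (Nat.card T).prod_factorization_pow_eq_self Nat.card_pos.ne'
  rw [Finsupp.prod, Nat.support_factorization] at hn
  interval_cases hc : (Nat.card T).primeFactors.card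
  · rw [Finset.card_eq_zero.1 hc, Finset.prod_empty] at hn
    exact CharApp.isSolvable_of_card_eq_prime_pow_mul 2 3 Nat.prime_two Nat.prime_three _ T rfl 0 0
      (by rw [← hn]; rfl)
  · obtain ⟨p, hp⟩ := Finset.card_eq_one.1 hc
    rw [hp, Finset.prod_singleton] at hn
    exact CharApp.isSolvable_of_card_eq_prime_pow_mul p 3
      (Nat.prime_of_mem_primeFactors (hp ▸ Finset.mem_singleton_self p)) Nat.prime_three _ T rfl ((Nat.card T).factorization p) 0
      (by rw [pow_zero, mul_one]; exact hn.symm)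
  · obtain ⟨p, q, hne, hpq⟩ := Finset.card_eq_two.1 hc
    rw [hpq, Finset.prod_pair hne] at hn
    exact CharApp.isSolvable_of_card_eq_prime_pow_mul p q
      (Nat.prime_of_mem_primeFactors (hpq ▸ Finset.mem_insert_self p _))
      (Nat.prime_of_mem_primeFactors (hpq ▸ Finset.mem_insert_of_mem (Finset.mem_singleton_self q)))
      _ T rfl _ _ hn.symm

/-- A non-solvable subgroup cannot consist of the identity and derangements in at most two classes. -/
theorem false_of_semiregular (T : Subgroup G) (hT : ¬ Group.IsSolvable T)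
    (hder : ∀ x : T, x ≠ 1 → ∀ b : Ω, (x : G) • b ≠ b)
    (h2 : ∀ d e f : G, (∀ a : Ω, d • a ≠ a) → (∀ a : Ω, e • a ≠ a) → (∀ a : Ω, f • a ≠ a) →
      IsConj d e ∨ IsConj d f ∨ IsConj e f) : False := by
  obtain ⟨p, q, r, hp, hq, hr, hpq, hpr, hqr, dp, dq, dr⟩ := exists_three_primes hT
  have key : ∀ s : ℕ, s.Prime → s ∣ Nat.card T → ∃ x : G, orderOf x = s ∧ ∀ b : Ω, x • b ≠ b := by
    intro s hs hd
    haveI : Fact s.Prime := ⟨hs⟩
    obtain ⟨x, hx⟩ := exists_prime_orderOf_dvd_card' s hd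
    refine ⟨x, by rw [Subgroup.orderOf_coe, hx], hder x fun h => ?_⟩
    rw [h, orderOf_one] at hx
    exact hs.ne_one hx.symm
  obtain ⟨x, ox, hx⟩ := key p hp dp
  obtain ⟨y, oy, hy⟩ := key q hq dq
  obtain ⟨z, oz, hz⟩ := key r hr dr
  rcases h2 x y z hx hy hz with h | h | h <;> have := orderOf_eq_of_isConj h <;> omega

/-- A simple non-abelian group is not solvable. -/
theorem not_isSolvable_of_simple {T : Type*} [Group T] [IsSimpleGroup T] (hT : ¬ IsMulCommutative T) :
    ¬ Group.IsSolvable T := fun h => hT ⟨⟨fun a b => IsSimpleGroup.comm_iff_isSolvable.2 h a b⟩⟩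

/-- Two classes of derangements exclude a non-simple non-abelian minimal normal subgroup. -/
theorem false_of_two_classes [FaithfulSMul G Ω] (N : Subgroup G) [N.Normal] [IsPretransitive N Ω]
    [Nontrivial Ω] (hNmin : ∀ M : Subgroup G, M.Normal → M ≤ N → M = ⊥ ∨ M = N) (hN0 : N ≠ ⊥)
    (hab : ¬ ∀ x ∈ N, ∀ y ∈ N, x * y = y * x)
    (hnas : ¬ ∃ T : Subgroup G, T.Normal ∧ IsSimpleGroup T ∧ ¬ IsMulCommutative T ∧
      Subgroup.centralizer (T : Set G) = ⊥)
    (hC : Subgroup.centralizer (N : Set G) = ⊥)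
    (h2 : ∀ d e f : G, (∀ a : Ω, d • a ≠ a) → (∀ a : Ω, e • a ≠ a) → (∀ a : Ω, f • a ≠ a) →
      IsConj d e ∨ IsConj d f ∨ IsConj e f) : False := by
  classical
  obtain ⟨T, hT0, hTN, hTn, hsimple, hTab, hprod, hcj, g₁, hg₁⟩ := exists_factor N hNmin hN0 hab hnas hC
  set C := N ⊓ Subgroup.centralizer (T : Set G) with hCdef
  have hCn : ∀ t ∈ T, ∀ c ∈ C, t * c = c * t := fun t ht c hc =>
    Subgroup.mem_centralizer_iff.1 hc.2 t ht
  have hTC : ∀ x ∈ T, x ∈ C → x = 1 := by
    intro x hx hxC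
    haveI := hsimple
    have hcen : (⟨x, hx⟩ : T) ∈ Subgroup.center T :=
      Subgroup.mem_center_iff.2 fun s => Subtype.ext (hCn s s.2 x hxC)
    rcases (Subgroup.normal_of_characteristic (Subgroup.center T)).eq_bot_or_eq_top with e | e
    · rw [e, Subgroup.mem_bot] at hcen
      exact congrArg Subtype.val hcen
    · exact absurd ⟨⟨fun a b => (Subgroup.mem_center_iff.1 (e ▸ Subgroup.mem_top a) b).symm⟩⟩ hTab
  obtain ⟨a⟩ : Nonempty Ω := inferInstance
  let R : Subgroup T :=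
    { carrier := {x | ∃ c ∈ C, (c * x : G) • a = a}
      one_mem' := ⟨1, one_mem _, by simp⟩
      mul_mem' := by
        rintro x y ⟨c, hc, hx⟩ ⟨c', hc', hy⟩
        refine ⟨c * c', mul_mem hc hc', ?_⟩
        rw [Subgroup.coe_mul, show c * c' * ((x : G) * (y : G)) = (c * x) * (c' * y) by
          rw [mul_assoc, ← mul_assoc c', ← hCn _ x.2 c' hc', mul_assoc, ← mul_assoc], mul_smul, hy, hx]
      inv_mem' := by
        rintro x ⟨c, hc, hx⟩
        refine ⟨c⁻¹, inv_mem hc, ?_⟩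
        rw [Subgroup.coe_inv, ← _root_.mul_inv_rev, hCn _ x.2 c hc, inv_smul_eq_iff, hx] }
  have htransT : ∀ b : Ω, ∃ x ∈ T, ∃ c ∈ C, (x * c) • a = b := fun b => by
    obtain ⟨m, hm⟩ := MulAction.exists_smul_eq N a b
    obtain ⟨x, hx, c, hc, e⟩ := hprod m m.2
    exact ⟨x, hx, c, hc, by rw [← e]; exact hm⟩
  by_cases hR : R = ⊤
  · -- all of `T` consists of derangements
    have hT1 : ∀ x : T, (x : G) • a = a → x = 1 := by
      intro x hx
      let A : Subgroup T := (MulAction.stabilizer G a).comap T.subtype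
      haveI hA : A.Normal := ⟨fun y hy z => by
        obtain ⟨c, hc, hz⟩ : z ∈ R := hR ▸ Subgroup.mem_top z
        show ((z : G) * y * (z : G)⁻¹) • a = a
        have hy' : (y : G) • a = a := hy
        have e : (z : G) * y * (z : G)⁻¹ = (c * z) * y * (c * z)⁻¹ := by
          have h3 := hCn _ (z * y * z⁻¹).2 c hc
          simp only [Subgroup.coe_mul, Subgroup.coe_inv] at h3
          rw [show c * (z : G) * y * (c * z)⁻¹ = c * ((z : G) * y * (z : G)⁻¹) * c⁻¹ by group, ← h3,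
            mul_inv_cancel_right]
        rw [e, mul_smul, mul_smul]
        conv_lhs => rw [show (c * (z : G))⁻¹ • a = a from inv_smul_eq_iff.2 hz.symm, hy', hz]⟩
      haveI := hsimple
      rcases hA.eq_bot_or_eq_top with h | h
      · have : x ∈ A := hx
        rwa [h, Subgroup.mem_bot] at this
      · exfalso
        refine hT0 ((Subgroup.eq_bot_iff_forall _).2 fun t ht => ?_)
        refine FaithfulSMul.eq_of_smul_eq_smul (α := Ω) fun b => ?_
        obtain ⟨m, rfl⟩ := MulAction.exists_smul_eq N a b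
        have ht' : (⟨(m : G)⁻¹ * t * ((m : G)⁻¹)⁻¹, hTn _ (inv_mem m.2) t ht⟩ : T) ∈ A :=
          h ▸ Subgroup.mem_top _
        have ht2 : ((m : G)⁻¹ * t * ((m : G)⁻¹)⁻¹) • a = a := ht'
        rw [inv_inv, mul_smul, mul_smul, inv_smul_eq_iff] at ht2
        rw [one_smul]; exact ht2
    have hderT : ∀ x : T, x ≠ 1 → ∀ b : Ω, (x : G) • b ≠ b := by
      intro x hx b hb
      obtain ⟨y, hy, c, hc, rfl⟩ := htransT b
      have hm : y * c ∈ N := mul_mem (hTN hy) hc.1
      refine hx ?_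
      have h3 := hT1 ⟨(y * c)⁻¹ * x * ((y * c)⁻¹)⁻¹, hTn _ (inv_mem hm) x x.2⟩ (by
        show ((y * c)⁻¹ * (x : G) * ((y * c)⁻¹)⁻¹) • a = a
        rw [inv_inv, mul_smul, mul_smul, hb, inv_smul_smul])
      have h4 := congrArg Subtype.val h3
      simp only [Subgroup.coe_one, inv_inv] at h4
      refine Subtype.ext ?_
      rw [mul_assoc, inv_mul_eq_one] at h4
      exact mul_eq_right.1 h4.symm
    exact false_of_semiregular T (haveI := hsimple; not_isSolvable_of_simple hTab) hderT h2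
  -- two kinds of derangements
  obtain ⟨t, ht⟩ := exists_avoiding R hR
  have hder : ∀ c ∈ C, ∀ b : Ω, ((t : G) * c) • b ≠ b := by
    intro c hc b hb
    obtain ⟨x, hx, c', hc', rfl⟩ := htransT b
    refine ht ⟨x, hx⟩ ⟨c'⁻¹ * c * c', mul_mem (mul_mem (inv_mem hc') hc) hc', ?_⟩
    have hy : x⁻¹ * (t : G) * x ∈ T := mul_mem (mul_mem (inv_mem hx) t.2) hx
    show (c'⁻¹ * c * c' * (x⁻¹ * (t : G) * x)) • a = a
    rw [show c'⁻¹ * c * c' * (x⁻¹ * (t : G) * x) = (x * c')⁻¹ * ((t : G) * c) * (x * c') by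
      have e1 := hCn x hx c hc
      have e2 := hCn _ hy c' hc'
      have e3 := hCn _ hy c hc
      rw [mul_assoc (c'⁻¹ * c), ← e2, ← mul_assoc, mul_assoc c'⁻¹, ← e3]
      calc c'⁻¹ * (x⁻¹ * (t : G) * x * c) * c' = c'⁻¹ * x⁻¹ * (t : G) * (x * c) * c' := by group
        _ = c'⁻¹ * x⁻¹ * (t : G) * (c * x) * c' := by rw [e1]
        _ = _ := by group, mul_smul, mul_smul, hb, inv_smul_smul]
  have ht1 : (t : G) ≠ 1 := fun h => by
    have h2 := hder 1 (one_mem _) a
    rw [h, one_mul, one_smul] at h2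
    exact h2 rfl
  have hconjT : ∀ g : G, ∀ x ∈ T, g * x * g⁻¹ ∈ T ∨ g * x * g⁻¹ ∈ C := by
    intro g x hx
    rcases hcj g with h | h
    · exact .inl (h ▸ ⟨x, hx, rfl⟩)
    · exact .inr (h ⟨x, hx, rfl⟩)
  have hsplit : ∀ y ∈ T, ∀ v ∈ C, ∀ y' ∈ T, ∀ v' ∈ C, y * v = y' * v' → y = y' ∧ v = v' := by
    intro y hy v hv y' hy' v' hv' e
    have h3 : y'⁻¹ * y = v' * v⁻¹ := by
      rw [eq_mul_inv_iff_mul_eq, mul_assoc, inv_mul_eq_iff_eq_mul]; exact e
    have h4 := hTC _ (mul_mem (inv_mem hy') hy) (h3 ▸ mul_mem hv' (inv_mem hv))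
    have h5 := (inv_mul_eq_one.1 h4).symm
    exact ⟨h5, mul_left_cancel (h5 ▸ e : y' * v = y' * v')⟩
  -- `t` is not conjugate to `t u`
  have hnot : ∀ u ∈ C, u ≠ 1 → ¬ IsConj ((t : G) * 1) ((t : G) * u) := by
    intro u hu hu1 hcon
    rw [mul_one] at hcon
    obtain ⟨g, hg⟩ := isConj_iff.1 hcon
    rcases hconjT g t t.2 with h | h
    · rw [hg] at h
      exact hu1 (hTC u (by simpa using mul_mem (inv_mem t.2) h) hu)
    · rw [hg] at h
      exact ht1 (hTC t t.2 (by simpa using mul_mem h (inv_mem hu)))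
  -- all non-identity elements of the second factor have the same order
  haveI := hsimple
  refine hTab (isMulCommutative_of_same_order fun u v hu hv => ?_)
  have hu' : g₁ * (u : G) * g₁⁻¹ ∈ C := hg₁ ⟨u, u.2, rfl⟩
  have hv' : g₁ * (v : G) * g₁⁻¹ ∈ C := hg₁ ⟨v, v.2, rfl⟩
  have hord : ∀ (g : G) (x : T), orderOf (g * (x : G) * g⁻¹) = orderOf x := fun g x => by
    rw [← Subgroup.orderOf_coe x]; exact (MulAut.conj g).orderOf_eq (x : G)
  have hne : ∀ x : T, x ≠ 1 → g₁ * (x : G) * g₁⁻¹ ≠ 1 := fun x hx e =>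
    hx (Subtype.ext (conj_eq_one_iff.1 e))
  rcases h2 _ _ _ (hder 1 (one_mem _)) (hder _ hu') (hder _ hv') with h | h | h
  · exact absurd h (hnot _ hu' (hne u hu))
  · exact absurd h (hnot _ hv' (hne v hv))
  obtain ⟨g, hg⟩ := isConj_iff.1 h
  have e : g * (t : G) * g⁻¹ * ((g * g₁) * (u : G) * (g * g₁)⁻¹) = (t : G) * (g₁ * (v : G) * g₁⁻¹) := by
    rw [← hg]; group
  rcases hconjT g t t.2 with h3 | h3 <;> rcases hconjT (g * g₁) u u.2 with h4 | h4
  · exfalso
    have h5 := (hsplit _ (mul_mem h3 h4) 1 (one_mem _) _ t.2 _ hv' (by rw [mul_one]; exact e)).2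
    exact hne v hv h5.symm
  · obtain ⟨-, h5⟩ := hsplit _ h3 _ h4 _ t.2 _ hv' e
    rw [← hord (g * g₁) u, h5, hord]
  · rw [← hCn _ h4 _ h3] at e
    obtain ⟨h5, h6⟩ := hsplit _ h4 _ h3 _ t.2 _ hv' e
    rw [← hord (g * g₁) u, h5, Subgroup.orderOf_coe, ← hord g t, h6, hord]
  · exfalso
    have h5 := (hsplit _ (one_mem _) _ (mul_mem h3 h4) _ t.2 _ hv' (by rw [one_mul]; exact e)).1
    exact ht1 h5.symm

end Cfsg.Agent.DerangeClass
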